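import Groth.Agent.AsympCoh.Seq
import Groth.Agent.IntTh.Big
import Groth.Agent.HilbPoly.Hilb
import Groth.Agent.HilbPoly.DimVanish

/-!
# Growth of cohomology of negative twists
-/

universe u

open CategoryTheory CategoryTheory.Limits AlgebraicGeometry Opposite TopologicalSpace

set_option autoImplicit false
set_option linter.style.haveILetI false
set_option backward.isDefEq.respectTransparency false
set_option maxHeartbeats 1600000

namespace Groth.Agent.NegGrowth

open InvBasic ProjUniv Groth.Agent.InvPow Groth.Agent.QCohLib Groth.Agent.HilbPoly Groth.Agent.CurveDeg Groth.Agent.CohFinite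

variable (k : Type u) [Field k] {X : Scheme.{u}} [X.Over (Spec (CommRingCat.of k))]
  [IsProper (X ↘ Spec (CommRingCat.of k))]

theorem nonempty_cancel {B B' : X.Modules} (hB : PicF.IsInvertible B) (hB' : ClSub.IsInverseOf B B')
    (G : X.Modules) (e t : ℕ) :
    Nonempty (CohB1.tensorMod (CohB1.tensorMod G (CohB1.tensorPow B e)) (CohB1.tensorPow B' (t + e)) ≅
      CohB1.tensorMod G (CohB1.tensorPow B' t)) := by
  have hB'i := NegVanish.isInvertible_of_inverse hB hB'
  have h1 := isInvertible_tensorPow hB e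
  have h2 := isInvertible_tensorPow hB'i e
  have h3 := isInvertible_tensorPow hB'i t
  obtain ⟨p⟩ := nonempty_pow_add_iso hB'i e t
  obtain ⟨a⟩ := nonempty_assoc (CohB1.tensorMod G (CohB1.tensorPow B e)) h2 h3
  obtain ⟨a'⟩ := nonempty_assoc G h1 h2
  obtain ⟨i⟩ := NegVanish.isInverseOf_pow hB hB' e
  exact ⟨(ProjTwist.nonempty_tensorMod_iso (Iso.refl _) (eqToIso (by rw [Nat.add_comm t e]) ≪≫ p.symm)).some ≪≫ a ≪≫
    (ProjTwist.nonempty_tensorMod_iso (a'.symm ≪≫ (ProjTwist.nonempty_tensorMod_iso (Iso.refl G) i).some ≪≫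
      SecTwist.unitorR G) (Iso.refl _)).some⟩

/-- `h^i(G ⊗ B^{-t}) = O((1+t)^i)`. -/
theorem exists_bound {B B' : X.Modules} (hB : CohB1.IsAmple B) (hB' : ClSub.IsInverseOf B B') :
    ∀ (i : ℕ) (G : X.Modules), Coh.IsCoh G → ∃ C : ℝ, 0 ≤ C ∧ ∀ t : ℕ,
      (hdim k X (CohB1.tensorMod G (CohB1.tensorPow B' t)) i : ℝ) ≤ C * (1 + (t : ℝ)) ^ i := by
  haveI := isNoetherian_of_proper (X := X) k
  have hB'i := NegVanish.isInvertible_of_inverse hB.1 hB'
  intro i G hG
  induction i generalizing G with
  | zero =>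
    obtain ⟨e, he, hτ⟩ := IntTh.exists_regular_section k hB hG
    obtain ⟨τ, hm⟩ := hτ 1 one_pos
    revert τ
    rw [Nat.mul_one]
    intro τ hm
    haveI := hm
    let f : ℕ → ℝ := fun t => (hdim k X (CohB1.tensorMod G (CohB1.tensorPow B' t)) 0 : ℝ)
    have hE := isInvertible_tensorPow hB.1 e
    have hstep : ∀ t, f (t + e) ≤ f t := fun t => by
      obtain ⟨c⟩ := nonempty_cancel hB.1 hB' G e t
      exact Int.cast_le.mpr (IntTh.hdim_le_of_regular k hG hE τ (isInvertible_tensorPow hB'i (t + e)) c)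
    refine ⟨∑ t ∈ Finset.range e, f t, Finset.sum_nonneg fun t _ => Int.cast_nonneg (AsympCoh.hdim_nonneg k _ _),
      fun t => ?_⟩
    rw [pow_zero, mul_one]
    induction t using Nat.strong_induction_on with
    | _ t ih =>
      by_cases ht : t < e
      · exact Finset.single_le_sum (f := f) (fun t _ => Int.cast_nonneg (AsympCoh.hdim_nonneg k _ _))
          (Finset.mem_range.mpr ht)
      · have := hstep (t - e)
        rw [Nat.sub_add_cancel (not_lt.mp ht)] at this
        exact this.trans (ih (t - e) (by omega))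
  | succ i ih =>
    obtain ⟨e, he, hτ⟩ := IntTh.exists_regular_section k hB hG
    obtain ⟨τ, hm⟩ := hτ 1 one_pos
    revert τ
    rw [Nat.mul_one]
    intro τ hm
    haveI := hm
    have hE := isInvertible_tensorPow hB.1 e
    have hGE := HilbPoly.isCoh_tensorMod hG hE
    have hQ : Coh.IsCoh (cokernel (mulSection G τ)) := QCohLib.isCoh_cokernel _ hG.1 hGE
    obtain ⟨C, hC, hbd⟩ := ih _ hQ
    let f : ℕ → ℝ := fun t => (hdim k X (CohB1.tensorMod G (CohB1.tensorPow B' t)) (i + 1) : ℝ)
    have hf0 : ∀ t, 0 ≤ f t := fun t => Int.cast_nonneg (AsympCoh.hdim_nonneg k _ _)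
    have hstep : ∀ t, f (t + e) ≤ f t + C * (1 + ((t + e : ℕ) : ℝ)) ^ i := fun t => by
      have ht := isInvertible_tensorPow hB'i (t + e)
      obtain ⟨c⟩ := nonempty_cancel hB.1 hB' G e t
      obtain ⟨-, h, -⟩ := AsympCoh.hdim_exact k
        (S := tSC _ ht) (shortExact_tSC (CohFinite.shortExact_cokernel (mulSection G τ)) ht)
        (HilbPoly.isCoh_tensorMod hG ht) (HilbPoly.isCoh_tensorMod hGE ht) (HilbPoly.isCoh_tensorMod hQ ht) (i + 1)
      change hdim k X (CohB1.tensorMod G (CohB1.tensorPow B' (t + e))) (i + 1) ≤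
        hdim k X (CohB1.tensorMod (CohB1.tensorMod G (CohB1.tensorPow B e)) (CohB1.tensorPow B' (t + e))) (i + 1) +
        hdim k X (CohB1.tensorMod (cokernel (mulSection G τ)) (CohB1.tensorPow B' (t + e))) i at h
      rw [hdim_congr k c (i + 1)] at h
      have h' := (Int.cast_le (R := ℝ)).mpr h
      push_cast at h'
      have := hbd (t + e)
      push_cast at this ⊢
      simp only [f]
      linarith
    have hD : 0 ≤ ∑ t ∈ Finset.range e, f t := Finset.sum_nonneg fun t _ => hf0 t
    refine ⟨(∑ t ∈ Finset.range e, f t) + C, add_nonneg hD hC, fun t => ?_⟩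
    have key : f t ≤ (∑ t ∈ Finset.range e, f t) + (t : ℝ) * (C * (1 + (t : ℝ)) ^ i) := by
      induction t using Nat.strong_induction_on with
      | _ t iht =>
        by_cases ht : t < e
        · exact (Finset.single_le_sum (f := f) (fun t _ => hf0 t) (Finset.mem_range.mpr ht)).trans
            (le_add_of_nonneg_right (by positivity))
        · have hs := hstep (t - e)
          rw [Nat.sub_add_cancel (not_lt.mp ht)] at hs
          have hi := iht (t - e) (by omega)
          have hle : ((t - e : ℕ) : ℝ) + 1 ≤ (t : ℝ) := by exact_mod_cast (show t - e + 1 ≤ t by omega)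
          have hp : (1 + ((t - e : ℕ) : ℝ)) ^ i ≤ (1 + (t : ℝ)) ^ i :=
            pow_le_pow_left₀ (by positivity) (by linarith) i
          have h1 := mul_le_mul_of_nonneg_left hp hC
          have h2 := mul_le_mul_of_nonneg_left h1 (Nat.cast_nonneg (α := ℝ) (t - e))
          have h3 := mul_le_mul_of_nonneg_right hle (show 0 ≤ C * (1 + (t : ℝ)) ^ i by positivity)
          linarith
    refine key.trans ?_
    rw [add_mul, pow_succ]
    refine add_le_add (le_mul_of_one_le_right hD (one_le_mul_of_one_le_of_one_le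
      (one_le_pow₀ (le_add_of_nonneg_right (Nat.cast_nonneg t))) (le_add_of_nonneg_right (Nat.cast_nonneg t)))) ?_
    have : 0 ≤ C * (1 + (t : ℝ)) ^ i := by positivity
    nlinarith

include k in
/-- The top cohomology of some negative twist is non-zero. -/
theorem exists_nontrivial {B B' : X.Modules} (hB : CohB1.IsAmple B) (hB' : ClSub.IsInverseOf B B')
    {G : X.Modules} (hG : Coh.IsCoh G) {a : ℕ} (ha : 1 ≤ a)
    (hdim' : topologicalKrullDim (CohB1.support G) = (a : WithBot ℕ∞)) :
    ∃ t : ℕ, Nontrivial (Coh.HH X (CohB1.tensorMod G (CohB1.tensorPow B' t)) a) := by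
  haveI := isNoetherian_of_proper (X := X) k
  have hB'i := NegVanish.isInvertible_of_inverse hB.1 hB'
  by_contra hno
  push Not at hno
  obtain ⟨p, hpd, hp⟩ := exists_hilbPoly' (k := k) hB.1 hG hdim'.le
  have hpos := coeff_top_pos k hB hG hdim' hp
  have hN : ∀ t, Coh.IsCoh (CohB1.tensorMod G (CohB1.tensorPow B' t)) := fun t =>
    HilbPoly.isCoh_tensorMod hG (isInvertible_tensorPow hB'i t)
  have hNd : ∀ t, topologicalKrullDim (CohB1.support (CohB1.tensorMod G (CohB1.tensorPow B' t))) ≤ (a : WithBot ℕ∞) :=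
    fun t => by rw [HilbPoly.support_tensorMod _ (isInvertible_tensorPow hB'i t)]; exact hdim'.le
  -- negative values of the Hilbert polynomial
  have hneg : ∀ t : ℕ, (Curv2.euler k X (CohB1.tensorMod G (CohB1.tensorPow B' t)) : ℚ) = p.eval (-(t : ℚ)) := by
    intro t
    obtain ⟨q, -, hq⟩ := exists_hilbPoly' (k := k) hB.1 (hN t) (hNd t)
    have he : ∀ s : ℕ, Nonempty (CohB1.tensorMod (CohB1.tensorMod G (CohB1.tensorPow B' t)) (CohB1.tensorPow B (s + t)) ≅
        CohB1.tensorMod G (CohB1.tensorPow B s)) := fun s => by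
      exact nonempty_cancel hB'i
        (show ClSub.IsInverseOf B' B from ⟨(ProjTwist.nonempty_tensorMod_comm B' B).some ≪≫ hB'.some⟩) G t s
    have hqp : q.comp (Polynomial.X + Polynomial.C (t : ℚ)) = p := by
      refine Polynomial.eq_of_infinite_eval_eq _ _ ?_
      refine (Set.infinite_range_of_injective Nat.cast_injective).mono ?_
      rintro _ ⟨s, rfl⟩
      show (q.comp (Polynomial.X + Polynomial.C (t : ℚ))).eval (s : ℚ) = p.eval (s : ℚ)
      rw [Polynomial.eval_comp, Polynomial.eval_add, Polynomial.eval_X, Polynomial.eval_C, ← Nat.cast_add, ← hq, ← hp]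
      exact congrArg Int.cast (euler_congr (he s).some)
    have h0 := hq 0
    rw [← hqp, Polynomial.eval_comp, Polynomial.eval_add, Polynomial.eval_X, Polynomial.eval_C, neg_add_cancel]
    rw [Nat.cast_zero] at h0
    rw [← h0]
    exact congrArg Int.cast (euler_congr (SecTwist.unitorR _).symm)
  choose C hC hbd using fun i => exists_bound k hB hB' i G hG
  have hbound : ∀ t : ℕ, 1 ≤ t → |((p.eval (-(t : ℚ)) : ℚ) : ℝ)| ≤
      (∑ i ∈ Finset.range a, C i) * (1 + (t : ℝ)) ^ (a - 1) := fun t ht => by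
    rw [← hneg t, Rat.cast_intCast, euler_eq_sum (N := a) fun i hi => ?_]
    · push_cast
      rw [Finset.sum_mul]
      refine (Finset.abs_sum_le_sum_abs _ _).trans (Finset.sum_le_sum fun i hi => ?_)
      rw [abs_mul, abs_pow, abs_neg, abs_one, one_pow, one_mul,
        abs_of_nonneg (Int.cast_nonneg (AsympCoh.hdim_nonneg k _ _))]
      exact (hbd i t).trans (mul_le_mul_of_nonneg_left (pow_le_pow_right₀
        (le_add_of_nonneg_right (Nat.cast_nonneg t)) (by have := Finset.mem_range.mp hi; omega)) (hC i))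
    · rcases lt_or_eq_of_le hi with h | h
      · exact subsingleton_HH_of_dim k (hN t) (hNd t) h
      · subst h; exact hno t
  let r : Polynomial ℝ := p.map (algebraMap ℚ ℝ)
  have hrc : r.coeff a ≠ 0 := by
    rw [Polynomial.coeff_map]
    exact (map_ne_zero _).mpr hpos.ne'
  have hev : ∀ t : ℕ, ((p.eval (-(t : ℚ)) : ℚ) : ℝ) = r.eval (-(t : ℝ)) := fun t => by
    rw [Polynomial.eval_map]
    have := Polynomial.hom_eval₂ p (RingHom.id ℚ) (algebraMap ℚ ℝ) (-(t : ℚ))
    rw [RingHom.comp_id] at this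
    refine (show ((p.eval (-(t : ℚ)) : ℚ) : ℝ) = algebraMap ℚ ℝ (p.eval₂ (RingHom.id ℚ) (-(t : ℚ))) from rfl).trans (this.trans ?_)
    rw [map_neg, map_natCast]
  let s : Polynomial ℝ := r.comp (-Polynomial.X)
  have hrd : r.natDegree = a := le_antisymm ((Polynomial.natDegree_map_le).trans hpd) (Polynomial.le_natDegree_of_ne_zero hrc)
  have hsd : s.natDegree = a := by
    simp only [s, Polynomial.natDegree_comp, Polynomial.natDegree_neg, Polynomial.natDegree_X, hrd, mul_one]
  have hlt : ((Polynomial.X + Polynomial.C (1 : ℝ)) ^ (a - 1)).degree < s.degree := by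
    have hs0 : s ≠ 0 := fun h => by rw [h, Polynomial.natDegree_zero] at hsd; omega
    rw [Polynomial.degree_eq_natDegree hs0, hsd, Polynomial.degree_pow, Polynomial.degree_X_add_C, nsmul_one]
    exact_mod_cast (show a - 1 < a by omega)
  have ht := (Polynomial.div_tendsto_zero_of_degree_lt _ s hlt).comp tendsto_natCast_atTop_atTop
  have hsne : ∀ᶠ t : ℕ in Filter.atTop, s.eval (t : ℝ) ≠ 0 := by
    have hs0 : s ≠ 0 := fun h => by rw [h, Polynomial.natDegree_zero] at hsd; omega
    exact tendsto_natCast_atTop_atTop.eventually (Polynomial.eventually_no_roots s hs0)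
  have hev2 := ht.eventually (Metric.ball_mem_nhds (0 : ℝ) (show 0 < 1 / ((∑ i ∈ Finset.range a, C i) + 1) by
    have := Finset.sum_nonneg fun i (_ : i ∈ Finset.range a) => hC i
    positivity))
  obtain ⟨t, h1, h2, h3⟩ := (hev2.and (hsne.and (Filter.eventually_ge_atTop 1))).exists
  have hb := hbound t h3
  rw [hev t] at hb
  have hseq : s.eval (t : ℝ) = r.eval (-(t : ℝ)) := by simp [s, Polynomial.eval_comp]
  rw [← hseq] at hb
  simp only [Function.comp, Metric.mem_ball, dist_zero_right, Real.norm_eq_abs, Polynomial.eval_pow,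
    Polynomial.eval_add, Polynomial.eval_X, Polynomial.eval_C, abs_div] at h1
  rw [div_lt_div_iff₀ (abs_pos.mpr h2) (by have := Finset.sum_nonneg fun i (_ : i ∈ Finset.range a) => hC i; positivity),
    one_mul, abs_of_nonneg (by positivity : (0 : ℝ) ≤ ((t : ℝ) + 1) ^ (a - 1))] at h1
  rw [add_comm (1 : ℝ)] at hb
  have : 0 ≤ ((t : ℝ) + 1) ^ (a - 1) := by positivity
  nlinarith

end Groth.Agent.NegGrowth
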